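import Groth.Agent.Lib.RosTrace22.Trace
import Groth.Agent.Lib.RR22.Classify
import Groth.Agent.Lib.Snapper.IntNum
import Groth.Agent.Lib.BorelFix21.BaseChange
import Groth.Agent.Lib.AVDegree22.CharPoly
import Groth.Agent.Lib.TateTors22.BaseChange
import Groth.Agent.Lib.CohBC18.Field
import Groth.Agent.Lib.AVPRank22.PRank

/-!
# The trace of an endomorphism through intersection numbers
-/

universe u

open CategoryTheory Limits MonoidalCategory CartesianMonoidalCategory AlgebraicGeometry
open scoped MonObj GrpObj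

set_option linter.style.haveILetI false
set_option linter.unusedSectionVars false
set_option maxHeartbeats 1000000
set_option synthInstance.maxHeartbeats 400000
set_option backward.isDefEq.respectTransparency false

noncomputable section

namespace Groth.Agent.AVTrace22

open Groth.Agent.AlgEquiv22 Groth.Agent.Index22 Groth.Agent.RosTrace22

noncomputable local instance instLawAVTrace (Y : Scheme.{u}) : PicGrp.Law Y := M2.law Y

/-! ## Alternating sums of a polynomial in the total exponent -/

theorem natDegree_sub_comp_le {q : Polynomial ℚ} {r : ℕ} (hq : q.natDegree ≤ r + 1) :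
    (q - q.comp (Polynomial.X + Polynomial.C 1)).natDegree ≤ r := by
  rw [Polynomial.natDegree_le_iff_coeff_eq_zero]
  intro m hm
  rw [← Polynomial.taylor_apply, Polynomial.coeff_sub, Polynomial.taylor_coeff]
  rcases eq_or_lt_of_le (Nat.succ_le_of_lt hm) with h | h
  · rw [Polynomial.eq_C_of_natDegree_le_zero (p := Polynomial.hasseDeriv m q)
      ((Polynomial.natDegree_hasseDeriv_le q m).trans (by omega)), Polynomial.eval_C,
      Polynomial.hasseDeriv_coeff, zero_add, Nat.choose_self, Nat.cast_one, one_mul, sub_self]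
  · rw [Polynomial.hasseDeriv_eq_zero_of_lt_natDegree q m (by omega), Polynomial.eval_zero,
      Polynomial.coeff_eq_zero_of_natDegree_lt (by omega), sub_self]

theorem coeff_sub_comp {q : Polynomial ℚ} {r : ℕ} (hq : q.natDegree ≤ r + 1) :
    (q - q.comp (Polynomial.X + Polynomial.C 1)).coeff r = -((r + 1 : ℕ) : ℚ) * q.coeff (r + 1) := by
  rw [← Polynomial.taylor_apply, Polynomial.coeff_sub, Polynomial.taylor_coeff]
  have hd : (Polynomial.hasseDeriv r q).natDegree ≤ 1 := (Polynomial.natDegree_hasseDeriv_le q r).trans (by omega)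
  rw [Polynomial.eq_X_add_C_of_natDegree_le_one hd]
  simp only [Polynomial.eval_add, Polynomial.eval_mul, Polynomial.eval_C, Polynomial.eval_X,
    Polynomial.hasseDeriv_coeff, zero_add, Nat.choose_self, Nat.cast_one, one_mul, mul_one]
  rw [show 1 + r = r + 1 by omega, Nat.choose_succ_self_right]
  ring

theorem sum_alt_eq (r : ℕ) : ∀ (q : Polynomial ℚ), q.natDegree ≤ r →
    ∑ b : Fin r → Bool, (∏ i, if b i then (-1 : ℚ) else 1) * q.eval ((∑ i, (b i).toNat : ℕ) : ℚ) =
      (-1) ^ r * r.factorial * q.coeff r := by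
  induction r with
  | zero =>
    intro q hq
    rw [Polynomial.eq_C_of_natDegree_le_zero hq]
    simp
  | succ r ih =>
    intro q hq
    have e : ∑ b : Fin (r + 1) → Bool, (∏ i, if b i then (-1 : ℚ) else 1) * q.eval ((∑ i, (b i).toNat : ℕ) : ℚ) =
        ∑ b : Fin r → Bool, (∏ i, if b i then (-1 : ℚ) else 1) *
          (q - q.comp (Polynomial.X + Polynomial.C 1)).eval ((∑ i, (b i).toNat : ℕ) : ℚ) := by
      rw [← (Fin.consEquiv fun _ => Bool).sum_comp, Fintype.sum_prod_type, Fintype.sum_bool,
        ← Finset.sum_add_distrib]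
      refine Finset.sum_congr rfl fun b _ => ?_
      simp only [Fin.consEquiv, Equiv.coe_fn_mk, Fin.prod_univ_succ, Fin.sum_univ_succ, Fin.cons_zero, Fin.cons_succ,
        Bool.toNat_true, Bool.toNat_false, if_true, Bool.false_eq_true, if_false, Polynomial.eval_sub,
        Polynomial.eval_comp, Polynomial.eval_add, Polynomial.eval_X, Polynomial.eval_C]
      push_cast
      rw [zero_add, add_comm (1 : ℚ)]
      ring
    rw [e, ih _ (natDegree_sub_comp_le hq), coeff_sub_comp hq, Nat.factorial_succ]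
    push_cast
    ring

theorem alt_eq_coeff {r : ℕ} (G : (Fin r → ℕ) → ℤ) (q : Polynomial ℚ) (hq : q.natDegree ≤ r)
    (hG : ∀ m : Fin r → ℕ, (G m : ℚ) = q.eval ((∑ i, m i : ℕ) : ℚ)) :
    ((Snapper.alt G : ℤ) : ℚ) = (-1) ^ r * r.factorial * q.coeff r := by
  rw [← sum_alt_eq r q hq, Snapper.alt, Int.cast_sum]
  refine Finset.sum_congr rfl fun b _ => ?_
  rw [Int.cast_mul, Int.cast_prod, hG]
  congr 1
  exact Finset.prod_congr rfl fun i _ => by split_ifs <;> simp

theorem natDegree_line_le {g : ℕ} {Q : MvPolynomial (Fin 3) ℚ} (hQ : Q.IsHomogeneous g) (a b : ℚ) :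
    (MvPolynomial.aeval ![Polynomial.C a, Polynomial.C b, Polynomial.X] Q : Polynomial ℚ).natDegree ≤ g := by
  rw [aeval_eq_sum]
  refine Polynomial.natDegree_sum_le_of_forall_le _ _ fun s hs => ?_
  simp only [Matrix.cons_val_zero, Matrix.cons_val_one, Matrix.cons_val_two, Matrix.tail_cons, Matrix.head_cons]
  refine (Polynomial.natDegree_C_mul_le _ _).trans ((Polynomial.natDegree_mul_le).trans ?_)
  rw [← Polynomial.C_pow, ← Polynomial.C_pow, ← Polynomial.C_mul, Polynomial.natDegree_C, zero_add,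
    Polynomial.natDegree_X_pow]
  have := sum_eq_degree hQ hs
  omega

theorem coeff_line_top {g : ℕ} {Q : MvPolynomial (Fin 3) ℚ} (hQ : Q.IsHomogeneous g) (a b : ℚ) :
    (MvPolynomial.aeval ![Polynomial.C a, Polynomial.C b, Polynomial.X] Q : Polynomial ℚ).coeff g =
      MvPolynomial.eval ![0, 0, 1] Q := by
  rw [aeval_eq_sum, Polynomial.finsetSum_coeff, MvPolynomial.eval_eq']
  refine Finset.sum_congr rfl fun s hs => ?_
  simp only [Fin.prod_univ_three, Matrix.cons_val_zero, Matrix.cons_val_one, Matrix.cons_val_two, Matrix.tail_cons,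
    Matrix.head_cons]
  rw [Polynomial.coeff_C_mul, ← Polynomial.C_pow, ← Polynomial.C_pow, ← Polynomial.C_mul, Polynomial.coeff_C_mul_X_pow,
    one_pow, mul_one]
  have := sum_eq_degree hQ hs
  by_cases h : g = s 2
  · rw [if_pos h, show s 0 = 0 by omega, show s 1 = 0 by omega]
    simp
  · rw [if_neg h]
    rcases Nat.eq_zero_or_pos (s 0) with h0 | h0
    · simp [zero_pow (show s 1 ≠ 0 by omega)]
    · simp [zero_pow (show s 0 ≠ 0 by omega)]

theorem cls_multiTwist {X : Scheme.{u}} {r : ℕ} (R : Fin r → X.Modules) (hR : ∀ i, PicF.IsInvertible (R i))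
    (m : Fin r → ℕ) : ∃ hl : PicF.IsInvertible (FGA.multiTwist R m),
      PicGrp.cls _ hl = ∏ i, PicGrp.cls (R i) (hR i) ^ m i := by
  have key : ∀ l : List (Fin r), ∃ hl : PicF.IsInvertible (FGA.tensorList (l.map fun i => CohB1.tensorPow (R i) (m i))),
      PicGrp.cls _ hl = (l.map fun i => PicGrp.cls (R i) (hR i) ^ m i).prod := by
    intro l
    induction l with
    | nil => exact ⟨PicLoc.isInvertible_structureModule _, PicGrp.cls_structureModule_eq_one⟩
    | cons i l ih =>
      obtain ⟨hl, e⟩ := ih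
      refine ⟨M2.isInvertible_tensor (M2.isInvertible_tensorPow (hR i) _) hl, Subtype.ext ?_⟩
      simp only [List.map_cons, List.prod_cons, ← e, PicGrp.mul_val, PicGrp.cls_pow_val, PicGrp.cls_val,
        PicGrp.mulCl_cl, FGA.tensorList]
  obtain ⟨hl, e⟩ := key (List.finRange r)
  exact ⟨hl, e.trans (Fin.prod_univ_def _).symm⟩

variable {k : Type u} [Field k] {A : Over (Spec (CommRingCat.of k))} [GrpObj A] [IsProper A.hom]
  [GeometricallyIntegral A.hom]

/-- The pullback by an endomorphism multiplies the Euler characteristic by the degree, over any field. -/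
theorem chi_pullback [IsCommMonObj A] [IsIntegral A.left] (β : EndAV.End A) (c : PicLoc.PicSet A.left) :
    chi (pb β.toHom c) = (AVDegree22.deg0 β : ℚ) * chi c := by
  obtain ⟨L, hL, rfl⟩ := PicGrp.exists_eq_cls c
  rw [pb, PicGrp.pullHom_cls, chi_cls, chi_cls]
  by_cases hf : IsFinite β.toHom.left
  · haveI := hf
    haveI := (AVDegree22.finite_props β hf).2.1
    rw [AVDegree22.deg0_of_finite hf, IsogEuler22.euler_pullback β.toHom (AVDegree22.deg β)
      (AVDegree22.finrank_eq_deg β) (CubeField.isCoh_of_isInvertible hL)]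
    push_cast
    rfl
  · rw [AVDegree22.deg0_of_not_finite hf, RR22.euler_eq_zero_of_not_isFinite β.toHom hf hL
      (PicLoc.isInvertible_pullback _ hL) (PicLoc.pullCl_cl _ _).symm]
    simp

/-! ## Base change -/

variable (Ω : Type u) [Field Ω] [Algebra k Ω]

/-- The base change. -/
abbrev bcO (X : Over (Spec (CommRingCat.of k))) : Over (Spec (CommRingCat.of Ω)) := (Over.pullback (Spec.map (CommRingCat.ofHom (algebraMap k Ω)))).obj X

/-- Pullback of classes to the base change. -/
def bcC (X : Over (Spec (CommRingCat.of k))) : PicLoc.PicSet X.left →* PicLoc.PicSet (bcO Ω X).left :=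
  PicGrp.pullHom (pullback.fst X.hom (Spec.map (CommRingCat.ofHom (algebraMap k Ω)))) (M2.pullMul _)

theorem bcC_pb {V W : Over (Spec (CommRingCat.of k))} (f : V ⟶ W) (c : PicLoc.PicSet W.left) :
    bcC Ω V (pb f c) = pb ((Over.pullback (Spec.map (CommRingCat.ofHom (algebraMap k Ω)))).map f) (bcC Ω W c) := by
  apply Subtype.ext
  rw [bcC, bcC, pb, pb, PicGrp.pullHom_apply_val, PicGrp.pullHom_apply_val, PicGrp.pullHom_apply_val,
    PicGrp.pullHom_apply_val]
  refine (PicDesc21.pullCl_pullCl _ _ _).trans (Eq.trans ?_ (PicDesc21.pullCl_pullCl _ _ _).symm)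
  exact congrArg (fun g => PicF.pullCl g c.1) (BorelFix21.isPullback_bc_map (Spec.map (CommRingCat.ofHom (algebraMap k Ω))) f).w

theorem chi_bcC (c : PicLoc.PicSet A.left) :
    letI : GrpObj (bcO Ω A) := Functor.grpObjObj
    haveI : IsProper (bcO Ω A).hom := inferInstanceAs (IsProper (pullback.snd A.hom (Spec.map (CommRingCat.ofHom (algebraMap k Ω)))))
    haveI : GeometricallyIntegral (bcO Ω A).hom := inferInstanceAs (GeometricallyIntegral (pullback.snd A.hom (Spec.map (CommRingCat.ofHom (algebraMap k Ω)))))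
    chi (A := bcO Ω A) (bcC Ω A c) = chi c := by
  obtain ⟨L, hL, rfl⟩ := PicGrp.exists_eq_cls c
  letI : GrpObj (bcO Ω A) := Functor.grpObjObj
  haveI : IsProper (bcO Ω A).hom := inferInstanceAs (IsProper (pullback.snd A.hom (Spec.map (CommRingCat.ofHom (algebraMap k Ω)))))
  haveI : GeometricallyIntegral (bcO Ω A).hom := inferInstanceAs (GeometricallyIntegral (pullback.snd A.hom (Spec.map (CommRingCat.ofHom (algebraMap k Ω)))))
  letI : A.left.Over (Spec (CommRingCat.of k)) := ⟨A.hom⟩
  haveI : CompactSpace A.left := QuasiCompact.compactSpace_of_compactSpace A.hom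
  haveI : QuasiSeparatedSpace A.left := quasiSeparatedSpace_of_quasiSeparated A.hom
  rw [bcC, PicGrp.pullHom_cls, chi_cls, chi_cls]
  exact congrArg Int.cast (CohBC18.euler_bc (k := k) A.left Ω L
    (M2.isQCoh_of_isFinLocFree (M2.isFinLocFree_of_isInvertible hL)))

variable [IsAlgClosed Ω] [IsCommMonObj A] [IsIntegral A.left]

include Ω in
/-- The trace formula over any field: the coefficient below the leading one of the degree polynomial times the
intersection number of the polarisation is `g` times the mixed intersection number. -/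
theorem coeff_mul_intNum {h : ℕ} (hh : topologicalKrullDim A.left = ((h + 1 : ℕ) : WithBot ℕ∞))
    (α : EndAV.End A) (d : PicLoc.PicSet A.left) (P : Polynomial ℚ)
    (hP : ∀ j : ℕ, P.eval (j : ℚ) = (AVDegree22.deg0 (α + ((j : ℤ) : EndAV.End A)) : ℚ))
    (N : Fin (h + 1) → A.left.Modules) (hN : ∀ i, PicF.IsInvertible (N i))
    (hN0 : PicGrp.cls (N 0) (hN 0) = bil d α.toHom (𝟙 A))
    (hNs : ∀ i : Fin h, PicGrp.cls (N i.succ) (hN i.succ) = d)
    (M : A.left.Modules) (hM : PicF.IsInvertible M) (hMd : PicGrp.cls M hM = d) :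
    letI : A.left.Over (Spec (CommRingCat.of k)) := ⟨A.hom⟩
    P.coeff (2 * h + 1) * (FGA.intNum k A.left (h + 1) (fun _ : Fin (h + 1) => M) (Coh.structureModule A.left) : ℚ) =
      ((h + 1 : ℕ) : ℚ) * (FGA.intNum k A.left (h + 1) N (Coh.structureModule A.left) : ℚ) := by
  letI : A.left.Over (Spec (CommRingCat.of k)) := ⟨A.hom⟩
  haveI : IsProper (A.left ↘ Spec (CommRingCat.of k)) := ‹IsProper A.hom›
  let F := Over.pullback (Spec.map (CommRingCat.ofHom (algebraMap k Ω)))
  letI gA : GrpObj (F.obj A) := Functor.grpObjObj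
  haveI : IsProper (F.obj A).hom := inferInstanceAs (IsProper (pullback.snd A.hom (Spec.map (CommRingCat.ofHom (algebraMap k Ω)))))
  haveI : GeometricallyIntegral (F.obj A).hom := inferInstanceAs (GeometricallyIntegral (pullback.snd A.hom (Spec.map (CommRingCat.ofHom (algebraMap k Ω)))))
  haveI : IsCommMonObj (F.obj A) := isCommMonObj_of_isProper_of_geometricallyIntegral _
  haveI : IsIntegral (F.obj A).left := GeometricallyIntegral.isIntegral_of_subsingleton (F.obj A).hom
  have hh' : topologicalKrullDim (F.obj A).left = ((h + 1 : ℕ) : WithBot ℕ∞) :=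
    (AVPRank22.dim_baseChange (A := A) Ω).trans hh
  set d' : PicLoc.PicSet (F.obj A).left := bcC Ω A d with hd'
  set a' : F.obj A ⟶ F.obj A := F.map α.toHom with ha'
  haveI : IsMonHom a' := inferInstance
  set D := bil d α.toHom (𝟙 A) with hD
  set D' := bil d' a' (𝟙 (F.obj A)) with hD'
  have hbil : bcC Ω A D = D' := by
    rw [hD, hD', bil, bil, map_mul, map_inv, map_mul, bcC_pb, bcC_pb, bcC_pb, F.map_mul, F.map_id]
  -- the quadratic polynomial
  obtain ⟨Q, hQ, hQe⟩ := exists_form hh' ![pb a' d', D', d']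
  have key : P * Polynomial.C (chi d') = MvPolynomial.aeval ![1, Polynomial.X, Polynomial.X ^ 2] Q := by
    refine RR22.poly_ext 0 fun j _ => ?_
    have h2 : (α + ((j : ℤ) : EndAV.End A)).toHom = α.toHom * 𝟙 A ^ j := by
      rw [EndAV.End.toHom_add, EndAV.End.toHom_intCast, zpow_natCast]
    have h3 : bil d' a' (𝟙 (F.obj A) ^ j) = D' ^ j := by
      rw [bil_comm, ← zpow_natCast, bil_zpow_left, zpow_natCast, bil_comm]
    have h4 := hQe ![1, j, j * j]
    simp only [Fin.prod_univ_three, Matrix.cons_val_zero, Matrix.cons_val_one, Matrix.cons_val_two, Matrix.tail_cons,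
      Matrix.head_cons, pow_one] at h4
    rw [Polynomial.eval_mul, Polynomial.eval_C, hP j, hd', chi_bcC, ← chi_pullback, ← chi_bcC Ω, bcC_pb, h2,
      F.map_mul, TateTors22.map_mul_pow, F.map_id, ← hd', ← ha', pb_mul, h3, eval_aeval,
      chi_congr (d := pb a' d' * D' ^ j * d' ^ (j * j)), h4]
    · refine congrArg (fun f => MvPolynomial.eval f Q) (funext fun i => ?_)
      fin_cases i <;> simp [sq]
    · refine (congrArg AlgEquiv22.Inv ?_).mpr (inv_pow_div d' j)
      rw [mul_right_comm _ (pb (𝟙 (F.obj A) ^ j) d'), ← div_eq_mul_inv, mul_div_mul_left_eq_div, div_eq_mul_inv]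
  have hc := congrArg (Polynomial.coeff · (2 * h + 1)) key
  simp only [Polynomial.coeff_mul_C, coeff_quadratic hQ] at hc
  -- the line polynomials
  let q : ℚ → Polynomial ℚ := fun b => MvPolynomial.aeval ![Polynomial.C 0, Polynomial.C b, Polynomial.X] Q
  have hq : ∀ b n : ℕ, (q b).eval (n : ℚ) = chi (D' ^ b * d' ^ n) := fun b n => by
    have h1 := hQe ![0, b, n]
    simp only [Fin.prod_univ_three, Matrix.cons_val_zero, Matrix.cons_val_one, Matrix.cons_val_two, Matrix.tail_cons,
      Matrix.head_cons, pow_zero, _root_.one_mul] at h1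
    rw [h1, eval_aeval]
    refine congrArg (fun f => MvPolynomial.eval f Q) (funext fun i => ?_)
    fin_cases i <;> simp
  have hdeg : ∀ b : ℚ, (q b).natDegree ≤ h + 1 := fun b => natDegree_line_le hQ _ _
  have htop : ∀ b : ℚ, (q b).coeff (h + 1) = chi d' := fun b => by
    rw [coeff_line_top hQ]
    have h1 := hQe ![0, 0, 1]
    simp only [Fin.prod_univ_three, Matrix.cons_val_zero, Matrix.cons_val_one, Matrix.cons_val_two, Matrix.tail_cons,
      Matrix.head_cons, pow_zero, pow_one, _root_.one_mul] at h1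
    rw [h1]
    refine congrArg (fun f => MvPolynomial.eval f Q) (funext fun i => ?_)
    fin_cases i <;> simp
  have hlow : ∀ b : ℚ, (q b).coeff h = b * Q.coeff (mono01 h) := fun b => by
    rw [coeff_linear hQ, zero_mul, zero_add]
  -- the values of the Euler characteristic
  have hdim : topologicalKrullDim A.left ≤ ((h + 1 : ℕ) : WithBot ℕ∞) := hh.le
  have hval : ∀ (R : Fin (h + 1) → A.left.Modules) (hR : ∀ i, PicF.IsInvertible (R i)) (m : Fin (h + 1) → ℕ),
      ((Snapper.chi k R (Coh.structureModule A.left) m : ℤ) : ℚ) =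
        chi (A := F.obj A) (∏ i, bcC Ω A (PicGrp.cls (R i) (hR i)) ^ m i) := by
    intro R hR m
    obtain ⟨hl, e⟩ := cls_multiTwist R hR m
    rw [show (∏ i, bcC Ω A (PicGrp.cls (R i) (hR i)) ^ m i) = bcC Ω A (∏ i, PicGrp.cls (R i) (hR i) ^ m i) by
      simp only [map_prod, map_pow], ← e, chi_bcC, chi_cls]
    exact congrArg Int.cast (CurveCoh17.euler_iso (M2.tensorLUnit _))
  have i1 : (FGA.intNum k A.left (h + 1) (fun _ : Fin (h + 1) => M) (Coh.structureModule A.left) : ℚ) =
      (-1) ^ (h + 1) * ((h + 1).factorial : ℚ) * chi d' := by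
    rw [Snapper.intNum_eq_alt hdim (fun _ => hM) (M1.isCoh_structureModule _),
      alt_eq_coeff _ (q 0) (hdeg 0) fun m => ?_, htop]
    rw [hval _ (fun _ => hM), ← Nat.cast_zero, hq, pow_zero, _root_.one_mul, Finset.prod_pow_eq_pow_sum, hMd]
  have i2 : (FGA.intNum k A.left (h + 1) N (Coh.structureModule A.left) : ℚ) =
      (-1) ^ (h + 1) * (h.factorial : ℚ) * Q.coeff (mono01 h) := by
    rw [Snapper.intNum_eq_alt hdim hN (M1.isCoh_structureModule _), Snapper.alt_cons, Int.cast_sub]
    have hd1 : (q 0 - q 1).natDegree ≤ h := by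
      rw [Polynomial.natDegree_le_iff_coeff_eq_zero]
      intro m hm
      rcases eq_or_lt_of_le (Nat.succ_le_of_lt hm) with e | e
      · rw [Polynomial.coeff_sub, ← e, htop, htop, sub_self]
      · exact Polynomial.coeff_eq_zero_of_natDegree_lt
          ((Polynomial.natDegree_sub_le _ _).trans_lt ((max_le (hdeg 0) (hdeg 1)).trans_lt e))
    have hv : ∀ (c : ℕ) (m : Fin h → ℕ),
        ((Snapper.chi k N (Coh.structureModule A.left) (Fin.cons c m) : ℤ) : ℚ) =
          (q c).eval ((∑ i, m i : ℕ) : ℚ) := fun c m => by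
      rw [hval _ hN, hq, Fin.prod_univ_succ, Fin.cons_zero, hN0, hbil]
      simp only [Fin.cons_succ, hNs, ← Finset.prod_pow_eq_pow_sum, hd']
    have hs : ((Snapper.alt (fun m : Fin h → ℕ => Snapper.chi k N (Coh.structureModule A.left) (Fin.cons 0 m)) : ℤ) : ℚ) -
        ((Snapper.alt (fun m : Fin h → ℕ => Snapper.chi k N (Coh.structureModule A.left) (Fin.cons 1 m)) : ℤ) : ℚ) =
        ((Snapper.alt (fun m : Fin h → ℕ => Snapper.chi k N (Coh.structureModule A.left) (Fin.cons 0 m) -
          Snapper.chi k N (Coh.structureModule A.left) (Fin.cons 1 m)) : ℤ) : ℚ) := by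
      simp only [Snapper.alt, mul_sub, Finset.sum_sub_distrib, Int.cast_sub]
    rw [hs, alt_eq_coeff _ (q 0 - q 1) hd1 fun m => ?_, Polynomial.coeff_sub, hlow, hlow]
    · ring
    · rw [Int.cast_sub, hv, hv, Polynomial.eval_sub]
      simp
  rw [i1, i2, ← hc, Nat.factorial_succ]
  push_cast
  ring

end Groth.Agent.AVTrace22

end
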